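import Cfsg.Agent.SGn.Basic

/-!
# Standard subgroups with a centre of even order: definitions
-/

set_option autoImplicit false

namespace Cfsg.Lib.SCv

open Subgroup Cfsg.Lib.Gold Cfsg.Lib.Trans Cfsg.Lib.StdSz Cfsg.Lib.StdW
open Cfsg.Lib.StdM (Cl)
open scoped commutatorElement

variable {G Ω : Type*} [Group G] [Group Ω]

/-- the subgroup generated by the elements of order `p` of `H` commuting with `s` -/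
def V (H : Subgroup Ω) (p : ℕ) (s : Ω) : Subgroup Ω := closure {x | x ∈ H ⊓ C1 s ∧ x ^ p = 1}

/-- facts on the model; `t` and `y` represent the two classes of involutions -/
structure Fc (Γ Γ0 : Subgroup Ω) (t y : Ω) (p : ℕ) : Prop where
  le : Γ0 ≤ Γ
  idx : ∀ x ∈ Γ, ∀ y ∈ Γ, x ∉ Γ0 → y ∉ Γ0 → x * y ∈ Γ0
  simple : IsSimpleGroup Γ0
  aut : ∀ φ : MulAut Γ0, ∃ g ∈ Γ, ∀ x : Γ0, (φ x : Ω) = g * x * g⁻¹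
  cen : Γ ⊓ Cs Γ0 ≤ ⊥
  pp : p.Prime
  p2 : p ≠ 2
  t0 : t ∈ Γ0
  t2 : t * t = 1
  t1 : t ≠ 1
  y0 : y ∈ Γ0
  y2 : y * y = 1
  y1 : y ≠ 1
  cls : ∀ a ∈ Γ0, a * a = 1 → a = 1 ∨ Cl Γ0 t a ∨ Cl Γ0 y a
  ny : ¬ Cl Γ0 t y
  pT : ¬ p ^ 2 ∣ Nat.card ↥(Γ0 ⊓ C1 t)
  pY : ¬ p ^ 2 ∣ Nat.card ↥(Γ0 ⊓ C1 y)
  cT : Γ ⊓ Cs (V Γ0 p t) ≤ zpowers t
  tc : ∃ u ∈ V Γ0 p t, ∃ v ∈ V Γ0 p t, u * u = 1 ∧ ⁅u, v⁆ = t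
  yT : ∃ r ∈ V Γ0 p t, Cl Γ0 y r
  zY : V Γ0 p y ⊓ Cs (V Γ0 p y) ≤ ⊥
  cY : ∀ κ ∈ Γ ⊓ Cs (V Γ0 p y), κ * κ ≠ y
  tY : ∃ u ∈ V Γ0 p y, Cl Γ0 t u
  out : ∀ s ∈ Γ, s ∉ Γ0 → s * s = 1 →
    (∃ b ∈ Γ0 ⊓ C1 s, Cl Γ0 y b) ∧ ∃ u ∈ Γ0 ⊓ C1 s, Cl Γ0 t u ∧ Cl Γ0 s (s * u)

/-- square roots of `t` commute with elements of order three -/
structure ES (Γ0 : Subgroup Ω) (t y r : Ω) (p : ℕ) : Prop where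
  rV : r ∈ V Γ0 p t
  ry : Cl Γ0 y r
  no3 : ∀ x ∈ Γ0 ⊓ C1 t ⊓ C1 r, x ^ 3 = 1 → x = 1
  rt : ∀ j ∈ V Γ0 p t, j * j = t → ∃ x ∈ V Γ0 p t ⊓ C1 j, x ^ 3 = 1 ∧ x ≠ 1

/-- facts on the homocyclic subgroup `4²` generated by `j` and its conjugates under `θ` -/
structure EM (Γ Γ0 : Subgroup Ω) (t y σ θ j a r : Ω) : Prop where
  σΓ : σ ∈ Γ
  σ0 : σ ∉ Γ0
  ocl : ∀ x ∈ Γ, x ∉ Γ0 → x * x = 1 → Cl Γ0 σ x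
  θ0 : θ ∈ Γ0
  θ3 : θ ^ 3 = 1
  θσ : Commute θ σ
  j0 : j ∈ Γ0
  jc : Commute j (θ * j * θ⁻¹)
  jp : j * (θ * j * θ⁻¹) * (θ⁻¹ * j * θ) = 1
  j4 : j * j * (j * j) = 1
  jσ : σ * j * σ⁻¹ = j * (θ * (j * j) * θ⁻¹)
  jt : θ⁻¹ * (j * j) * θ = t
  roots : ∀ k ∈ Γ0, k * k = t → ∃ g ∈ V Γ0 3 t,
    g * k * g⁻¹ = θ⁻¹ * j * θ ∨ g * k * g⁻¹ = θ⁻¹ * j * θ * (j * j)
  yV : ∀ x ∈ Γ0 ⊓ C1 t, Cl Γ0 y x → x ∈ V Γ0 3 t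
  a0 : a ∈ Γ0 ⊓ C1 t
  aT : Cl Γ0 t a
  rV : r ∈ V Γ0 3 t
  ry : Cl Γ0 y r
  arT : Cl Γ0 t (r * (a * r * a⁻¹))
  ar1 : r * (a * r * a⁻¹) ≠ t
  fx : ∀ α ∈ Γ0 ⊓ C1 t, ∀ k ∈ V Γ0 3 t, k * k = t →
    k * (α * k * α⁻¹) * (k * (α * k * α⁻¹)) = t ∨ k * (α * k * α⁻¹) ∈ zpowers t

/-- `A` is a perfect central extension of `Γ0`, `z` the only involution of its centre; `ρ` is the
action of the normaliser -/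
structure Cv (Γ Γ0 : Subgroup Ω) (p : ℕ) (A : Subgroup G) (ρ : G → Ω) (z : G) : Prop where
  mul : ∀ x ∈ Ns A, ∀ y ∈ Ns A, ρ (x * y) = ρ x * ρ y
  ker : ∀ x ∈ Ns A, ρ x = 1 ↔ x ∈ Cs A
  memΓ : ∀ x ∈ Ns A, ρ x ∈ Γ
  mem : ∀ a ∈ A, ρ a ∈ Γ0
  surj : ∀ γ ∈ Γ0, ∃ a ∈ A, ρ a = γ
  perf : A ≤ ⁅A, A⁆
  zA : z ∈ A
  zC : z ∈ Cs A
  z2 : z * z = 1
  z1 : z ≠ 1
  two : ∀ c ∈ A, c ∈ Cs A → ∀ k, c ^ 2 ^ k = 1 → c = 1 ∨ c = z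
  pz : ∀ c ∈ A, c ∈ Cs A → c ^ p = 1 → c = 1
  sq : ∃ g ∈ A, g * g = z

/-- two conjugates whose central involutions commute -/
structure Pr (Γ Γ0 : Subgroup Ω) (p : ℕ) (A A' : Subgroup G) (ρ ρ' : G → Ω) (z z' : G) : Prop where
  c : Cv Γ Γ0 p A ρ z
  c' : Cv Γ Γ0 p A' ρ' z'
  cm : Commute z z'
  te : ∀ d ∈ Cs A, ∀ k, d ^ 2 ^ k = 1 → d ≠ 1 → C1 d ≤ Ns A
  te' : ∀ d ∈ Cs A', ∀ k, d ^ 2 ^ k = 1 → d ≠ 1 → C1 d ≤ Ns A'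
  dj : ∀ x ∈ Cs A, x ∈ Cs A' → ∀ k, x ^ 2 ^ k = 1 → x = 1

/-- every covering group with an involution `z` in the kernel contains a square root of `z` -/
def SqC.{u} (K : Type) [Group K] : Prop :=
  ∀ (M : Type u) [Group M] [Finite M] (σ : M →* K), IsStemExtension σ → ∀ z ∈ σ.ker, z * z = 1 →
    ∃ g, g * g = z

theorem V_eq_1' : type_of% @V.eq_1 := @V.eq_1

theorem SqC_eq_1'.{u} : type_of% @SqC.eq_1.{u} := @SqC.eq_1.{u}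

end Cfsg.Lib.SCv
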